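import Mathlib

set_option autoImplicit false

/-!
The icosian group inside quaternions over `ℤ[φ]`, `φ² = φ + 1`, as a checked table.
-/

namespace CfsgLib.H29.Dickson

/-- A quaternion over `ℤ[φ]`: `(a₀ + b₀φ) + (a₁ + b₁φ) i + (a₂ + b₂φ) j + (a₃ + b₃φ) k`. -/
structure Q8 where
  a₀ : ℤ
  b₀ : ℤ
  a₁ : ℤ
  b₁ : ℤ
  a₂ : ℤ
  b₂ : ℤ
  a₃ : ℤ
  b₃ : ℤ
  deriving DecidableEq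

namespace Q8

/-- Product in `ℤ[φ]`, constant part. -/
def pA (a b c d : ℤ) : ℤ := a * c + b * d

/-- Product in `ℤ[φ]`, `φ` part. -/
def pB (a b c d : ℤ) : ℤ := a * d + b * c + b * d

/-- Quaternion product. -/
def mul (p q : Q8) : Q8 :=
  ⟨pA p.a₀ p.b₀ q.a₀ q.b₀ - pA p.a₁ p.b₁ q.a₁ q.b₁ - pA p.a₂ p.b₂ q.a₂ q.b₂ - pA p.a₃ p.b₃ q.a₃ q.b₃,
   pB p.a₀ p.b₀ q.a₀ q.b₀ - pB p.a₁ p.b₁ q.a₁ q.b₁ - pB p.a₂ p.b₂ q.a₂ q.b₂ - pB p.a₃ p.b₃ q.a₃ q.b₃,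
   pA p.a₀ p.b₀ q.a₁ q.b₁ + pA p.a₁ p.b₁ q.a₀ q.b₀ + pA p.a₂ p.b₂ q.a₃ q.b₃ - pA p.a₃ p.b₃ q.a₂ q.b₂,
   pB p.a₀ p.b₀ q.a₁ q.b₁ + pB p.a₁ p.b₁ q.a₀ q.b₀ + pB p.a₂ p.b₂ q.a₃ q.b₃ - pB p.a₃ p.b₃ q.a₂ q.b₂,
   pA p.a₀ p.b₀ q.a₂ q.b₂ - pA p.a₁ p.b₁ q.a₃ q.b₃ + pA p.a₂ p.b₂ q.a₀ q.b₀ + pA p.a₃ p.b₃ q.a₁ q.b₁,
   pB p.a₀ p.b₀ q.a₂ q.b₂ - pB p.a₁ p.b₁ q.a₃ q.b₃ + pB p.a₂ p.b₂ q.a₀ q.b₀ + pB p.a₃ p.b₃ q.a₁ q.b₁,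
   pA p.a₀ p.b₀ q.a₃ q.b₃ + pA p.a₁ p.b₁ q.a₂ q.b₂ - pA p.a₂ p.b₂ q.a₁ q.b₁ + pA p.a₃ p.b₃ q.a₀ q.b₀,
   pB p.a₀ p.b₀ q.a₃ q.b₃ + pB p.a₁ p.b₁ q.a₂ q.b₂ - pB p.a₂ p.b₂ q.a₁ q.b₁ + pB p.a₃ p.b₃ q.a₀ q.b₀⟩

/-- Scaling by an integer. -/
def smul (n : ℤ) (q : Q8) : Q8 :=
  ⟨n * q.a₀, n * q.b₀, n * q.a₁, n * q.b₁, n * q.a₂, n * q.b₂, n * q.a₃, n * q.b₃⟩

/-- Twice the identity. -/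
def one₂ : Q8 := ⟨2, 0, 0, 0, 0, 0, 0, 0⟩
/-- Twice `i`. -/
def gI : Q8 := ⟨0, 0, 2, 0, 0, 0, 0, 0⟩
/-- Twice `j`. -/
def gJ : Q8 := ⟨0, 0, 0, 0, 2, 0, 0, 0⟩
/-- Twice `k`. -/
def gK : Q8 := ⟨0, 0, 0, 0, 0, 0, 2, 0⟩
/-- `1 + i + j + k`. -/
def gW : Q8 := ⟨1, 0, 1, 0, 1, 0, 1, 0⟩
/-- `φ + φ⁻¹ i + j`. -/
def gC : Q8 := ⟨0, 1, -1, 1, 1, 0, 0, 0⟩

/-- The generators. -/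
def gens : List Q8 := [gI, gJ, gW, gC]

/-- The norm. -/
def norm (q : Q8) : Q8 := mul q ⟨q.a₀, q.b₀, -q.a₁, -q.b₁, -q.a₂, -q.b₂, -q.a₃, -q.b₃⟩

end Q8

/-- The sixty icosians up to sign, doubled. -/
def icoList : List Q8 :=
  [⟨2, 0, 0, 0, 0, 0, 0, 0⟩,
   ⟨0, 0, 2, 0, 0, 0, 0, 0⟩,
   ⟨0, 0, 0, 0, 2, 0, 0, 0⟩,
   ⟨1, 0, 1, 0, 1, 0, 1, 0⟩,
   ⟨0, 1, -1, 1, 1, 0, 0, 0⟩,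
   ⟨0, 0, 0, 0, 0, 0, -2, 0⟩,
   ⟨-1, 0, 1, 0, 1, 0, -1, 0⟩,
   ⟨1, -1, 0, 1, 0, 0, -1, 0⟩,
   ⟨-1, 0, -1, 0, 1, 0, 1, 0⟩,
   ⟨-1, 0, 0, 0, 0, 1, -1, 1⟩,
   ⟨-1, 0, 1, 0, -1, 0, 1, 0⟩,
   ⟨-1, 0, 1, 0, 1, 0, 1, 0⟩,
   ⟨0, 0, 0, 1, 1, 0, -1, 1⟩,
   ⟨1, -1, 0, 1, 0, 0, 1, 0⟩,
   ⟨-1, 0, 0, 0, 0, 1, 1, -1⟩,
   ⟨0, 0, -1, 1, 0, 1, 1, 0⟩,
   ⟨-1, 1, 1, 0, 0, 1, 0, 0⟩,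
   ⟨0, 0, -1, 0, -1, 1, 0, -1⟩,
   ⟨-1, 0, -1, 0, 1, 0, -1, 0⟩,
   ⟨0, -1, 0, 0, -1, 1, -1, 0⟩,
   ⟨0, -1, 1, -1, 1, 0, 0, 0⟩,
   ⟨0, 0, -1, 0, 1, -1, 0, -1⟩,
   ⟨1, -1, 0, 0, 1, 0, 0, -1⟩,
   ⟨-1, 0, -1, 1, 0, 0, 0, -1⟩,
   ⟨-1, 0, -1, 0, -1, 0, 1, 0⟩,
   ⟨-1, 0, 1, -1, 0, 0, 0, 1⟩,
   ⟨0, 0, -1, 0, 1, -1, 0, 1⟩,
   ⟨0, -1, -1, 1, -1, 0, 0, 0⟩,
   ⟨0, -1, -1, 0, 0, 0, -1, 1⟩,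
   ⟨0, -1, 0, 0, -1, 1, 1, 0⟩,
   ⟨-1, 0, 1, 0, -1, 0, -1, 0⟩,
   ⟨1, -1, 1, 0, 0, -1, 0, 0⟩,
   ⟨0, -1, 1, 0, 0, 0, -1, 1⟩,
   ⟨0, -1, 0, 0, 1, -1, 1, 0⟩,
   ⟨0, -1, -1, 1, 1, 0, 0, 0⟩,
   ⟨-1, 0, 0, 1, -1, 1, 0, 0⟩,
   ⟨0, 0, 1, 0, 1, -1, 0, -1⟩,
   ⟨0, -1, 1, 0, 0, 0, 1, -1⟩,
   ⟨-1, 0, 0, 1, 1, -1, 0, 0⟩,
   ⟨-1, 0, 0, -1, -1, 1, 0, 0⟩,
   ⟨1, -1, 0, 0, -1, 0, 0, 1⟩,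
   ⟨-1, 0, -1, 1, 0, 0, 0, 1⟩,
   ⟨1, -1, 1, 0, 0, 1, 0, 0⟩,
   ⟨1, 0, 0, 0, 0, 1, -1, 1⟩,
   ⟨1, -1, 0, -1, 0, 0, 1, 0⟩,
   ⟨0, 0, 0, -1, 1, 0, 1, -1⟩,
   ⟨0, 0, 0, -1, 1, 0, -1, 1⟩,
   ⟨1, -1, 0, -1, 0, 0, -1, 0⟩,
   ⟨0, -1, -1, 0, 0, 0, 1, -1⟩,
   ⟨-1, 0, 0, 0, 0, -1, -1, 1⟩,
   ⟨-1, 0, 0, -1, 1, -1, 0, 0⟩,
   ⟨0, 0, 1, -1, 0, 1, 1, 0⟩,
   ⟨1, -1, -1, 0, 0, 1, 0, 0⟩,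
   ⟨-1, 0, 1, -1, 0, 0, 0, -1⟩,
   ⟨0, 0, 1, -1, 0, -1, 1, 0⟩,
   ⟨0, 0, -1, 1, 0, -1, 1, 0⟩,
   ⟨1, -1, 0, 0, -1, 0, 0, -1⟩,
   ⟨0, 0, 0, -1, -1, 0, -1, 1⟩,
   ⟨0, -1, 0, 0, 1, -1, -1, 0⟩,
   ⟨-1, 1, 0, 0, -1, 0, 0, -1⟩]

/-- Left multiplication table. -/
def icoTab : List (List (ℕ × ℤ)) :=
  [[(1, 2), (2, 2), (3, 2), (4, 2)],
   [(0, -2), (5, 2), (6, 2), (7, 2)],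
   [(5, -2), (0, -2), (8, 2), (9, 2)],
   [(10, 2), (6, 2), (11, 2), (12, 2)],
   [(13, 2), (14, 2), (15, 2), (16, 2)],
   [(2, 2), (1, -2), (10, -2), (17, 2)],
   [(8, 2), (3, -2), (18, 2), (19, 2)],
   [(20, 2), (21, 2), (22, 2), (23, 2)],
   [(6, -2), (10, 2), (24, 2), (25, 2)],
   [(26, 2), (27, 2), (28, 2), (29, 2)],
   [(3, -2), (8, -2), (30, 2), (31, 2)],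
   [(24, 2), (30, 2), (0, -2), (32, 2)],
   [(33, 2), (23, 2), (34, 2), (35, 2)],
   [(4, -2), (36, 2), (37, 2), (38, 2)],
   [(36, -2), (4, -2), (39, 2), (20, 2)],
   [(40, 2), (37, 2), (29, 2), (11, 2)],
   [(41, 2), (19, 2), (9, 2), (42, 2)],
   [(43, 2), (44, 2), (38, -2), (45, 2)],
   [(30, -2), (24, 2), (1, -2), (39, 2)],
   [(46, 2), (16, -2), (47, 2), (48, 2)],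
   [(7, -2), (49, 2), (50, 2), (28, 2)],
   [(49, -2), (7, -2), (32, -2), (13, -2)],
   [(51, 2), (50, 2), (45, 2), (18, 2)],
   [(52, 2), (12, -2), (17, 2), (53, 2)],
   [(11, -2), (18, -2), (2, -2), (54, 2)],
   [(42, -2), (45, -2), (49, 2), (40, 2)],
   [(9, -2), (47, -2), (55, 2), (22, -2)],
   [(47, 2), (9, -2), (56, 2), (43, -2)],
   [(35, -2), (55, 2), (16, -2), (24, 2)],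
   [(57, 2), (31, 2), (4, -2), (33, 2)],
   [(18, 2), (11, -2), (5, 2), (56, 2)],
   [(53, 2), (29, -2), (36, 2), (51, -2)],
   [(50, 2), (51, -2), (58, 2), (27, 2)],
   [(12, -2), (52, -2), (43, -2), (49, 2)],
   [(44, 2), (43, -2), (48, 2), (0, -2)],
   [(28, 2), (56, 2), (19, 2), (37, 2)],
   [(14, 2), (13, -2), (40, -2), (5, 2)],
   [(39, 2), (15, -2), (53, 2), (58, 2)],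
   [(48, 2), (59, 2), (23, 2), (30, 2)],
   [(37, -2), (40, 2), (57, 2), (44, 2)],
   [(15, -2), (39, -2), (31, 2), (55, 2)],
   [(16, -2), (46, -2), (27, 2), (10, 2)],
   [(25, 2), (58, 2), (20, 2), (34, 2)],
   [(17, -2), (34, 2), (59, -2), (15, 2)],
   [(34, -2), (17, -2), (54, 2), (26, 2)],
   [(58, -2), (25, 2), (7, -2), (46, 2)],
   [(19, -2), (41, 2), (26, 2), (36, -2)],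
   [(27, -2), (26, 2), (35, -2), (1, -2)],
   [(38, -2), (54, 2), (12, -2), (50, 2)],
   [(21, 2), (20, -2), (51, -2), (2, -2)],
   [(32, -2), (22, -2), (42, -2), (57, 2)],
   [(22, -2), (32, 2), (25, 2), (59, -2)],
   [(23, -2), (33, 2), (44, 2), (8, 2)],
   [(31, -2), (57, 2), (13, -2), (47, 2)],
   [(59, 2), (48, -2), (52, -2), (14, -2)],
   [(56, 2), (28, -2), (46, -2), (52, -2)],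
   [(55, -2), (35, -2), (41, -2), (21, 2)],
   [(29, -2), (53, -2), (14, -2), (6, -2)],
   [(45, 2), (42, -2), (21, 2), (3, -2)],
   [(54, -2), (38, -2), (33, -2), (41, -2)]]

theorem ico_closed : ∀ i : Fin 60, ∀ j : Fin 4,
    ∃ e ∈ (icoTab[(i : ℕ)]?.bind (·[(j : ℕ)]?)).toList, (e.2 = 2 ∨ e.2 = -2) ∧
      ∃ x ∈ (icoList[(i : ℕ)]?).toList, ∃ g ∈ (Q8.gens[(j : ℕ)]?).toList,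
        ∃ y ∈ (icoList[e.1]?).toList, Q8.mul g x = Q8.smul e.2 y := by
  decide +kernel

theorem ico_length : icoList.length = 60 ∧ icoList[0]? = some Q8.one₂ := by decide +kernel

theorem ico_norm : ∀ x ∈ icoList, Q8.norm x = ⟨4, 0, 0, 0, 0, 0, 0, 0⟩ := by decide +kernel

theorem ico_pow_five :
    Q8.mul Q8.gC (Q8.mul Q8.gC (Q8.mul Q8.gC (Q8.mul Q8.gC Q8.gC))) = Q8.smul (-16) Q8.one₂ := by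
  decide +kernel

end CfsgLib.H29.Dickson
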