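import Cfsg.Agent.H29.Dickson.Borel

set_option autoImplicit false

/-!
Maximal subgroups of `PGL₂(F)` intersected with `W F`.
-/

namespace CfsgLib.H29.Dickson

open Matrix OnePoint MulAction

variable {F : Type*} [Field F] [Fintype F]

/-- A copy of `A₄` is maximal in `W F` for the primes `p ≡ ±3 (mod 8)`, `p ≢ ±1 (mod 10)`. -/
theorem A4_max (p : ℕ) [Fact p.Prime] [CharP F p] (hF : Fintype.card F = p) (h5 : 5 ≤ p)
    (h8 : p % 8 = 3 ∨ p % 8 = 5) (h10 : p % 10 ≠ 1 ∧ p % 10 ≠ 9) {N : Subgroup (P2 F)}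
    (hNW : N ≤ W F) (e : Nonempty (N ≃* alternatingGroup (Fin 4))) : MaxIn (W F) N := by
  classical
  have hp' := (Fact.out : p.Prime)
  have h2 : (2 : F) ≠ 0 := by
    simpa using natCast_ne_zero (F := F) p (n := 2) (fun h => by
      have := Nat.le_of_dvd two_pos h; omega)
  have := finite_P2 (F := F)
  have hNc := card_A4 (N := N) e
  have hW := card_W_two h2
  have h120 : 5 * 24 ≤ p * (p ^ 2 - 1) :=
    Nat.mul_le_mul h5 (Nat.sub_le_sub_right (Nat.pow_le_pow_left h5 2) 1)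
  rw [hF] at hW
  have hne : N ≠ W F := fun h => by rw [← h, hNc] at hW; omega
  obtain ⟨M, hM, hle⟩ := exists_maxIn (lt_of_le_of_ne hNW hne)
  suffices hMN : Nat.card M ≤ 12 by
    rwa [Subgroup.eq_of_le_of_card_ge hle (by omega)]
  obtain ⟨s, t, w, T, hs, ht, hw⟩ := triple_of_iso e
  rcases kind_of_maxIn p h2 hM T (hle hs) (hle ht) (hle hw) with h' | ⟨-, hsq⟩ | h' |
    ⟨b, m, hb, hm, hq, -⟩
  · exact le_of_eq h'
  · have := (two_square_iff p hF h2).mp hsq; omega
  · exfalso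
    have hd : 60 * 2 ∣ p * (p ^ 2 - 1) := by
      rw [← hW, ← h']; exact Nat.mul_dvd_mul_right (Subgroup.card_dvd_of_le hM.lt.le) 2
    rcases (Nat.Prime.dvd_mul (by norm_num)).mp ((show 5 ∣ 60 * 2 by norm_num).trans hd)
      with h5p | h5p
    · obtain rfl := ((Nat.prime_dvd_prime_iff_eq (by norm_num) hp').mp h5p)
      exact hM.lt.ne (Subgroup.eq_of_le_of_card_ge hM.lt.le (by omega))
    · have h1 : 1 ≤ p ^ 2 := Nat.one_le_pow _ _ (by omega)
      have h4 : p ^ 2 % 5 = ((p % 5) ^ 2) % 5 := Nat.pow_mod p 2 5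
      have := Nat.odd_iff.mp (hp'.odd_of_ne_two (by omega))
      rcases (show p % 5 = 0 ∨ p % 5 = 3 ∨ p % 5 = 2 by omega) with h'' | h'' | h'' <;>
        rw [h''] at h4 <;> omega
  · have := eq_one_of_prime_card p hb hm hq (k := 1) (by rw [hF, pow_one]); omega

theorem maxIn_inter (h4 : 4 ≤ Fintype.card F) (h7 : Fintype.card F ≠ 7) (h9 : Fintype.card F ≠ 9)
    (h11 : Fintype.card F ≠ 11)
    (h40 : (Fintype.card F).Prime → Fintype.card F % 40 ∉ ({11, 19, 21, 29} : Finset ℕ))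
    {M : Subgroup (P2 F)} (hM : MaxIn ⊤ M) (hWM : ¬ W F ≤ M) : MaxIn (W F) (M ⊓ W F) := by
  classical
  obtain ⟨p, hp, hchar, -⟩ := exists_p (F := F)
  have := Fact.mk hp
  have := finite_P2 (F := F)
  by_cases h2 : (2 : F) = 0
  · rw [W_eq_top h2, inf_top_eq]; exact hM
  have hWT : W F ≠ ⊤ := fun h => by
    have := index_W_two h2
    rw [h, Subgroup.index_top] at this
    omega
  have hnor := W_normal (F := F)
  have noW : ¬ M ≤ W F := fun h => hWM (hM.eq_of_le h le_top hWT).ge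
  rcases maxKind p h4 (Or.inr rfl) hM hWM with ⟨x, hx⟩ |
    ⟨a, b, e, D, he, hx⟩ | ⟨hp', e⟩ | ⟨hp', ⟨eS⟩⟩ | ⟨hp', e⟩ |
    ⟨γ, a, r, ha, hr, hF, h⟩ | ⟨γ, a, r, ha, hr, hF, h⟩
  · rw [hx, inf_top_eq]; exact borel_max h4 x
  · rw [hx, inf_top_eq]
    exact torus_max D h4 he h7 h9 fun he1 => ⟨fun hq5 =>
      torus_not_max_top D (hx ▸ hM) hq5 (by omega), h11⟩
  · exfalso
    obtain ⟨N, hN, ⟨eN⟩⟩ := (exists_A4_S4 p h2).2 M e
    refine (hM.false_of_lt hN le_top fun h => ?_)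
    have hc := card_S4 (N := N) ⟨eN⟩
    rw [h, Subgroup.card_top, card_P2, Nat.card_eq_fintype_card (α := F)] at hc
    have := (sq_mul_bound h4).2.2.2
    omega
  · obtain ⟨hiff, γ, hγ⟩ := (conj_prime p h2).2 M ⟨eS⟩
    have hp5 := p_ge_five p (fun h => hp' (h.trans (by norm_num)))
    have hqp := card_eq_p_of_small p hM le_top h2 hp5 γ hγ (by rw [card_S4 (N := M) ⟨eS⟩]; norm_num)
    have hns : ¬ (p % 8 = 1 ∨ p % 8 = 7) := fun h => noW (hiff.mpr ((two_square_iff p hqp h2).mpr h))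
    have hodd := Nat.odd_iff.mp (hp.odd_of_ne_two (by omega))
    have h10 := h40 (hqp ▸ hp)
    simp only [hqp, Finset.mem_insert, Finset.mem_singleton, not_or] at h10
    let i : alternatingGroup (Fin 4) →* P2 F :=
      M.subtype.comp (eS.symm.toMonoidHom.comp (alternatingGroup (Fin 4)).subtype)
    have hi : Function.Injective i :=
      M.subtype_injective.comp (eS.symm.injective.comp Subtype.val_injective)
    have eA : Nonempty (i.range ≃* alternatingGroup (Fin 4)) :=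
      ⟨(MonoidHom.ofInjective hi).symm⟩
    have hAW := ((conj_prime p h2).1 _ eA).1
    have hAM : i.range ≤ M := by rintro _ ⟨x, rfl⟩; exact Subtype.prop _
    have hc := card_inf_W h2 noW
    rw [card_S4 (N := M) ⟨eS⟩] at hc
    have heq : i.range = M ⊓ W F :=
      Subgroup.eq_of_le_of_card_ge (le_inf hAM hAW) (by rw [card_A4 (N := i.range) eA]; omega)
    rw [← heq]
    exact A4_max p hqp hp5 (by omega) (by omega) hAW eA
  · exact absurd (le_W_of_A5 h2 e) noW
  · have hr2 : r ≠ 2 := by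
      rintro rfl
      exact noW ((conj_le_iff γ).mp (h ▸ PL_le_W_of_even p h2 ha hF even_two))
    obtain ⟨N, hN, -, hPS⟩ := exists_max_sub p h2 ha hr hF
    obtain rfl := hPS hr2
    have hnle : ¬ PL (fixF F p a) ≤ W F := fun h' => noW ((conj_le_iff γ).mp (h ▸ h'))
    have hc := card_inf_W h2 hnle
    have hg : Nat.gcd 2 (p ^ a - 1) = 2 := by
      have := Nat.odd_iff.mp ((hp.odd_of_ne_two (p_ne_two p h2)).pow (n := a))
      exact Nat.gcd_eq_left (by omega)
    have hps := PS_card_fixF p (F := F) ha hF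
    rw [hg, ← card_PL_fixF p ha hF, ← hc] at hps
    have heq : PS (fixF F p a) = PL (fixF F p a) ⊓ W F :=
      Subgroup.eq_of_le_of_card_ge (le_inf (PS_le_PL _) (PS_le_W _)) (by omega)
    have hmap : (M ⊓ W F).map (MulAut.conj γ).toMonoidHom = PS (fixF F p a) := by
      rw [heq, Subgroup.map_inf _ _ _ (MulAut.conj γ).injective, h]
      congr 1
      refine le_antisymm ((conj_le_iff γ).mpr le_rfl) ?_
      conv_lhs => rw [← map_conj_inv γ⁻¹ (W F), inv_inv]
      exact Subgroup.map_mono ((conj_le_iff γ⁻¹).mpr le_rfl)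
    have := hN.map γ⁻¹
    rwa [← hmap, map_conj_inv] at this
  · exact absurd ((conj_le_iff γ).mp (h ▸ PS_le_W _)) noW

end CfsgLib.H29.Dickson
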