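import Cfsg.Agent.H29.Dickson.Apps
import Cfsg.Agent.CharBasics.Burnside
import Cfsg.Agent.SLn.Simple

set_option autoImplicit false

/-!
Solvable and minimal simple `PSL₂(F)`.
-/

namespace CfsgLib.H29.Dickson

open Matrix OnePoint MulAction

variable {F : Type*} [Field F]

theorem solvable_of_equiv {G H : Type*} [Group G] [Group H] [Group.IsSolvable H] (e : G ≃* H) :
    Group.IsSolvable G := Group.isSolvable_of_isSolvable_injective (f := e.toMonoidHom) e.injective

theorem solvable_of_hom_comm {G A : Type*} [Group G] [CommGroup A] (f : G →* A)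
    (h : ∀ x y : G, f x = 1 → f y = 1 → x * y = y * x) : Group.IsSolvable G := by
  have : Group.IsSolvable f.ker :=
    Group.isSolvable_of_comm fun a b => Subtype.ext (h a b a.2 b.2)
  exact Group.isSolvable_of_ker_le_range f.ker.subtype f (by rw [Subgroup.range_subtype])

theorem solvable_dihedral (n : ℕ) : Group.IsSolvable (DihedralGroup n) := by
  let f : DihedralGroup n →* Multiplicative (ZMod 2) := MonoidHom.mk'
    (fun | .r _ => 1 | .sr _ => Multiplicative.ofAdd 1)
    (by rintro (i | i) (j | j) <;> simp <;> rfl)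
  refine solvable_of_hom_comm f ?_
  rintro (i | i) (j | j) hx hy
  · rw [DihedralGroup.r_mul_r, DihedralGroup.r_mul_r, add_comm]
  all_goals first
    | exact absurd hy (show Multiplicative.ofAdd (1 : ZMod 2) ≠ 1 by decide)
    | exact absurd hx (show Multiplicative.ofAdd (1 : ZMod 2) ≠ 1 by decide)

theorem solvable_stab (x : OnePoint F) : Group.IsSolvable (stabilizer (P2 F) x) := by
  obtain ⟨γ, rfl⟩ := exists_to_infty x
  have hf : ∀ g : stabilizer (P2 F) (γ • (∞ : OnePoint F)),
      (γ⁻¹ * (g : P2 F) * γ) • (∞ : OnePoint F) = ∞ := fun g => by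
    have hg : (g : P2 F) • (γ • (∞ : OnePoint F)) = γ • ∞ := g.2
    simp [mul_smul, hg]
  let f : stabilizer (P2 F) (γ • (∞ : OnePoint F)) →* Fˣ := MonoidHom.mk'
    (fun g => Units.mk0 _ (ratio_ne_zero (hf g))) fun g h => Units.ext (by
      simp only [Units.val_mk0, Units.val_mul, Subgroup.coe_mul]
      rw [← ratio_mul (hf g) (hf h)]
      congr 1
      group)
  refine solvable_of_hom_comm f fun a b ha hb => ?_
  obtain ⟨u, hu⟩ : ∃ u, γ⁻¹ * (a : P2 F) * γ = tra u :=
    eq_translation (hf a) (congrArg Units.val ha)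
  obtain ⟨v, hv⟩ : ∃ v, γ⁻¹ * (b : P2 F) * γ = tra v :=
    eq_translation (hf b) (congrArg Units.val hb)
  apply Subtype.ext
  have ha' : (a : P2 F) = γ * tra u * γ⁻¹ := by rw [← hu]; group
  have hb' : (b : P2 F) = γ * tra v * γ⁻¹ := by rw [← hv]; group
  rw [Subgroup.coe_mul, Subgroup.coe_mul, ha', hb']
  calc γ * tra u * γ⁻¹ * (γ * tra v * γ⁻¹) = γ * (tra u * tra v) * γ⁻¹ := by group
    _ = γ * (tra v * tra u) * γ⁻¹ := by rw [← tra_add, ← tra_add, add_comm]
    _ = γ * tra v * γ⁻¹ * (γ * tra u * γ⁻¹) := by group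

theorem solvable_card_twentyfour {G : Type*} [Group G] [Finite G] (h : Nat.card G ∣ 24) :
    Group.IsSolvable G := by
  refine CfsgLib.CharBasics.isSolvable_two_primes (G := G) 2 3 fun r hr hd => ?_
  have h24 : r ∣ 2 ^ 3 * 3 := hd.trans h
  rcases hr.dvd_mul.mp h24 with h' | h'
  · exact Or.inl ((Nat.prime_dvd_prime_iff_eq hr Nat.prime_two).mp (hr.dvd_of_dvd_pow h'))
  · exact Or.inr ((Nat.prime_dvd_prime_iff_eq hr Nat.prime_three).mp h')

theorem not_solvable_PSL {K : Type*} [Field K] [Fintype K] (h : 4 ≤ Fintype.card K) :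
    IsSimpleGroup (Matrix.ProjectiveSpecialLinearGroup (Fin 2) K) ∧
      ¬ IsMulCommutative (Matrix.ProjectiveSpecialLinearGroup (Fin 2) K) ∧
      ¬ Group.IsSolvable (Matrix.ProjectiveSpecialLinearGroup (Fin 2) K) := by
  classical
  have hs : IsSimpleGroup (Matrix.ProjectiveSpecialLinearGroup (Fin 2) K) := by
    refine CfsgLib.SLn.isSimpleGroup_PSL (Or.inr ?_)
    by_contra hne
    push Not at hne
    have hsub : (Finset.univ : Finset K) ⊆ ({0, 1, -1} : Finset K) := fun x _ => by
      by_cases hx : x = 0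
      · simp [hx]
      · rcases sq_eq_one_iff.mp (hne x hx) with h' | h' <;> simp [h']
    have := (Finset.card_le_card hsub).trans Finset.card_le_three
    rw [Finset.card_univ] at this
    omega
  have hne : ¬ ∀ a b : Matrix.ProjectiveSpecialLinearGroup (Fin 2) K, a * b = b * a := fun hc => by
    have hinj := Matrix.ProjectiveSpecialLinearGroup.toPGL_injective (n := Fin 2) (R := K)
    have e0 : tra (1 : K) ∈ W K := tra_mem_W 1
    have e1 : low (1 : K) ∈ W K := mem_W_iff.mpr ⟨1, by simp⟩
    rw [← range_toPGL] at e0 e1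
    obtain ⟨a, ha⟩ := e0
    obtain ⟨b, hb⟩ := e1
    have hab := congrArg Matrix.ProjectiveSpecialLinearGroup.toPGL (hc a b)
    rw [map_mul, map_mul, ha, hb] at hab
    have h0 : low (1 : K) • (∞ : OnePoint K) = ((1 : K) : OnePoint K) := by
      rw [low, smul_infty_of (by simp)]; simp
    have := congrArg (· • (∞ : OnePoint K)) hab
    simp only [mul_smul, tra_smul_infty, h0, tra_smul_coe, coe_eq_coe] at this
    simp at this
  exact ⟨hs, fun hc => hne fun a b => hc.is_comm.comm a b,
    fun hsol => hne ((IsSimpleGroup.comm_iff_isSolvable).mpr hsol)⟩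

end CfsgLib.H29.Dickson
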